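import Cfsg.Agent.Components.Misc.ConstrainedCores
import Cfsg.Agent.Components.ZJ.Stable
import Cfsg.Agent.Components.Control.Local
import Cfsg.Agent.JComp.Basic
import Cfsg.Agent.S0205
import Cfsg.Agent.S0215

/-!
Simple groups of characteristic two type in the early sense: some maximal `2`-local has
`O₂` with noncyclic centre.

If every such centre is cyclic, each maximal `2`-local is the centralizer of a conjugate of the
central involution `z`, and a commuting pair `z`, `w` of distinct conjugates with the largest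
common `2`-subgroup gives a contradiction.
-/

set_option linter.style.haveILetI false

namespace Cfsg.Lib.EarlyCharTwo

open Subgroup

variable {G : Type*} [Group G] [Finite G]

theorem mem_cent {a x : G} : x ∈ centralizer ({a} : Set G) ↔ x * a = a * x :=
  mem_centralizer_singleton_iff

theorem cent_eq_normalizer {v : G} (hv : orderOf v = 2) :
    centralizer ({v} : Set G) = normalizer (zpowers v : Set G) := by
  refine le_antisymm (fun c hc => centralizer_le_normalizer _ (mem_centralizer_iff.2 fun w hw => by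
    obtain ⟨n, rfl⟩ := mem_zpowers_iff.1 hw
    exact ((show Commute v c from (mem_cent.1 hc).symm).zpow_left n).eq)) fun g hg => ?_
  have h := (mem_normalizer_iff.1 hg v).1 (mem_zpowers v)
  classical
  haveI : NeZero 2 := ⟨two_ne_zero⟩
  rw [mem_zpowers_iff_mem_range_orderOf, hv, Finset.mem_image] at h
  obtain ⟨i, hi, e⟩ := h
  rw [Finset.mem_range] at hi
  refine mem_cent.2 ?_
  interval_cases i
  · rw [pow_zero, eq_comm, mul_inv_eq_one] at e
    have : v = 1 := by simpa using e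
    rw [this, orderOf_one] at hv
    omega
  · rw [pow_one] at e
    exact eq_mul_inv_iff_mul_eq.1 e |>.symm

theorem isPGroup_zpowers_inv {v : G} (hv : orderOf v = 2) : IsPGroup 2 ↥(zpowers v) :=
  IsPGroup.of_card (n := 1) (by rw [Nat.card_zpowers, hv, pow_one])

theorem zpowers_ne_bot {v : G} (hv : orderOf v = 2) : zpowers v ≠ ⊥ := fun e => by
  rw [zpowers_eq_bot] at e
  rw [e, orderOf_one] at hv
  omega

/-- A nontrivial `2`-subgroup has a central involution. -/
theorem exists_central_involution {T : Subgroup G} (hT : IsPGroup 2 T) (hT1 : T ≠ ⊥) :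
    ∃ i ∈ T, orderOf i = 2 ∧ ∀ x ∈ T, x * i = i * x := by
  haveI : Fact (Nat.Prime 2) := ⟨Nat.prime_two⟩
  haveI : Nontrivial ↥T := (nontrivial_iff_ne_bot T).2 hT1
  haveI := hT.center_nontrivial
  have hc : IsPGroup 2 (center ↥T) := hT.to_subgroup _
  obtain ⟨n, hn0, hn⟩ := hc.nontrivial_iff_card.1 inferInstance
  obtain ⟨i, hi⟩ := exists_prime_orderOf_dvd_card' (G := center ↥T) 2 (hn ▸ dvd_pow_self 2 hn0.ne')
  refine ⟨((i : ↥T) : G), (i : ↥T).2, ?_, fun x hx => ?_⟩
  · rw [Subgroup.orderOf_coe, Subgroup.orderOf_coe, hi]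
  · exact congrArg Subtype.val (mem_center_iff.1 i.2 ⟨x, hx⟩)

/-- Two involutions of a cyclic subgroup are equal. -/
theorem eq_of_cyclic {Z : Subgroup G} (hZ : IsCyclic ↥Z) {a b : G} (ha : a ∈ Z) (hb : b ∈ Z)
    (ha2 : orderOf a = 2) (hb2 : orderOf b = 2) : a = b := by
  classical
  haveI := Fintype.ofFinite ↥Z
  have h1 := IsCyclic.card_pow_eq_one_le (α := ↥Z) (n := 2) two_pos
  by_contra hne
  have hsub : ({1, ⟨a, ha⟩, ⟨b, hb⟩} : Finset ↥Z) ⊆
      Finset.univ.filter fun x : ↥Z => x ^ 2 = 1 := by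
    intro x hx
    simp only [Finset.mem_insert, Finset.mem_singleton] at hx
    refine Finset.mem_filter.2 ⟨Finset.mem_univ _, ?_⟩
    rcases hx with rfl | rfl | rfl
    · exact one_pow 2
    · exact Subtype.ext (show a ^ 2 = 1 from ha2 ▸ pow_orderOf_eq_one a)
    · exact Subtype.ext (show b ^ 2 = 1 from hb2 ▸ pow_orderOf_eq_one b)
  have h1a : (1 : ↥Z) ≠ ⟨a, ha⟩ := fun e => by
    have : a = 1 := (congrArg Subtype.val e).symm
    rw [this, orderOf_one] at ha2; omega
  have h1b : (1 : ↥Z) ≠ ⟨b, hb⟩ := fun e => by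
    have : b = 1 := (congrArg Subtype.val e).symm
    rw [this, orderOf_one] at hb2; omega
  have hab : (⟨a, ha⟩ : ↥Z) ≠ ⟨b, hb⟩ := fun e => hne (congrArg Subtype.val e)
  have h3 : ({1, ⟨a, ha⟩, ⟨b, hb⟩} : Finset ↥Z).card = 3 := by
    rw [Finset.card_insert_of_notMem (by simp [h1a, h1b]), Finset.card_pair hab]
  have h2 := Finset.card_le_card hsub
  omega

variable (G) in
/-- all `2`-locals are `2`-constrained -/
def Constrained : Prop :=
  ∀ T : Subgroup G, IsPGroup 2 ↥T → T ≠ ⊥ → Cfsg.IsPConstrained 2 ↥(normalizer (T : Set G))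

/-- If a Sylow `2`-subgroup has SCN of rank three and normalizes no odd subgroup, the cores vanish. -/
theorem cores_eq_bot (hcon : Constrained G) (S : Sylow 2 G) {A : Subgroup G}
    (hA : Cfsg.IsSCN (S : Subgroup G) A) (hA3 : ¬ Cfsg.PRankLE 2 2 ↥A)
    (hinv : ∀ X : Subgroup G, Odd (Nat.card ↥X) → (S : Subgroup G) ≤ normalizer (X : Set G) → X = ⊥)
    {t : G} (ht : orderOf t = 2) : Cfsg.centralizerPPrimeCore 2 t = ⊥ := by
  haveI : Fact (Nat.Prime 2) := ⟨Nat.prime_two⟩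
  obtain ⟨hAS, hSA, hAC⟩ := hA
  have hAab : IsMulCommutative ↥A := ⟨⟨fun a b => Subtype.ext
    (mem_centralizer_iff.1 (hAC.ge b.2).2 _ a.2)⟩⟩
  have hA3' : ¬ Cfsg.PRankLE 2 2 ↥(A.subgroupOf (S : Subgroup G)) := fun h => hA3 fun B hB h2 => by
    let e := (subgroupOfEquivOfLe hAS).symm
    have := h (B.map e.toMonoidHom) inferInstance (by
      rintro _ ⟨b, hb, rfl⟩
      rw [← map_pow, h2 b hb, map_one])
    rwa [card_map_of_injective e.injective] at this
  haveI : (A.subgroupOf (S : Subgroup G)).Normal := normal_subgroupOf_of_le_normalizer hSA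
  have hab' : IsMulCommutative ↥(A.subgroupOf (S : Subgroup G)) := ⟨⟨fun a b => Subtype.ext (Subtype.ext
    (mem_centralizer_iff.1 (hAC.ge (mem_subgroupOf.1 b.2)).2 _ (mem_subgroupOf.1 a.2)))⟩⟩
  -- a Sylow subgroup containing the involution
  obtain ⟨S', hS'⟩ := (isPGroup_zpowers_inv ht).exists_le_sylow
  obtain ⟨W, hWodd, hW⟩ := Cfsg.Lib.Misc.ConstrainedCores.exists_common_of_normal_abelian hcon
    (fun Y hY => Cfsg.Agent.S0205.result (G := ↥Y) hY) S (A.subgroupOf (S : Subgroup G)) inferInstance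
    hab' hA3' S'
  obtain ⟨g, hg⟩ := MulAction.exists_smul_eq G S S'
  have hr : ¬ Cfsg.PRankLE 2 1 ↥(S' : Subgroup G) := fun h => by
    obtain ⟨B, hBab, hB2, hB4⟩ : ∃ B : Subgroup ↥A, IsMulCommutative ↥B ∧ (∀ b ∈ B, b ^ 2 = 1) ∧
        2 ^ 2 < Nat.card ↥B := by
      by_contra hc
      exact hA3 fun B hB h2 => not_lt.1 fun hl => hc ⟨B, hB, h2, hl⟩
    let f : ↥A →* ↥(S' : Subgroup G) := (S.equiv S').toMonoidHom.comp (inclusion hAS)
    have hf : Function.Injective f := (S.equiv S').injective.comp (inclusion_injective hAS)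
    have := h (B.map f) inferInstance (by
      rintro _ ⟨b, hb, rfl⟩
      rw [← map_pow, hB2 b hb, map_one])
    rw [card_map_of_injective hf] at this
    omega
  obtain ⟨hWeq, hWn⟩ := hW (S' : Subgroup G) le_rfl hr
  have hW1 : W = ⊥ := by
    have h := hinv (W.map (MulAut.conj g⁻¹).toMonoidHom)
      (by rwa [card_map_of_injective (MulAut.conj g⁻¹).injective]) fun s hs => ?_
    · rwa [map_eq_bot_iff_of_injective _ (MulAut.conj g⁻¹).injective] at h
    have hs' : g * s * g⁻¹ ∈ (S' : Subgroup G) := by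
      rw [← hg, Sylow.coe_subgroup_smul]
      exact Subgroup.smul_mem_pointwise_smul s (MulAut.conj g) _ hs
    have hn := hWn (le_normalizer hs')
    refine mem_normalizer_iff.2 fun x => ⟨?_, fun hx => ?_⟩
    · rintro ⟨y, hy, rfl⟩
      refine ⟨_, (mem_normalizer_iff.1 hn y).1 hy, ?_⟩
      simp only [MulEquiv.coe_toMonoidHom, MulAut.conj_apply]
      group
    · obtain ⟨y, hy, e⟩ := hx
      refine ⟨_, (mem_normalizer_iff''.1 hn y).1 hy, ?_⟩
      simp only [MulEquiv.coe_toMonoidHom, MulAut.conj_apply] at e ⊢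
      calc g⁻¹ * ((g * s * g⁻¹)⁻¹ * y * (g * s * g⁻¹)) * g⁻¹⁻¹
          = s⁻¹ * (g⁻¹ * y * g⁻¹⁻¹) * s := by group
        _ = x := by rw [e]; group
  rw [hW1] at hWeq
  have ht1 : t ≠ 1 := fun e => by rw [e, orderOf_one] at ht; omega
  rw [eq_bot_iff, hWeq]
  exact le_iSup (fun b : {b : G // b ∈ (S' : Subgroup G) ∧ b ≠ 1} => Cfsg.centralizerPPrimeCore 2 (b : G))
    ⟨t, hS' (mem_zpowers t), ht1⟩

variable (hcon : Constrained G)
  (hcores : ∀ t : G, orderOf t = 2 → Cfsg.centralizerPPrimeCore 2 t = ⊥)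
  (hcyc : ∀ M : Subgroup G, Cfsg.IsMaximalTwoLocal M → IsCyclic ↥(center ↥(Cfsg.pCore 2 ↥M)))

include hcon hcores hcyc in
/-- The structure of a maximal `2`-local. -/
theorem maximal_structure {M : Subgroup G} (hM : Cfsg.IsMaximalTwoLocal M) :
    ∃ v : G, orderOf v = 2 ∧ M = centralizer ({v} : Set G) ∧
      ∀ P : Sylow 2 G, Cfsg.pCoreOf 2 M ≤ (P : Subgroup G) → ∀ i : G, orderOf i = 2 →
        i ∈ (P : Subgroup G) → (∀ x ∈ (P : Subgroup G), x * i = i * x) → i = v := by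
  haveI : Fact (Nat.Prime 2) := ⟨Nat.prime_two⟩
  obtain ⟨T, hT, hT1, hMT⟩ := hM.1
  set Q := Cfsg.pCoreOf 2 M with hQdef
  have hQp : IsPGroup 2 Q := Cfsg.Lib.JComp.isPGroup_pCoreOf M
  have hTQ : T ≤ Q := Cfsg.Lib.JComp.le_pCoreOf hT (hMT ▸ le_normalizer) hMT.le
  have hQ1 : Q ≠ ⊥ := fun e => hT1 (le_bot_iff.1 (e ▸ hTQ))
  obtain ⟨v, hvQ, hv, hvc⟩ := exists_central_involution hQp hQ1
  have hmem : ∀ x : ↥M, (x : G) ∈ Q → x ∈ Cfsg.pCore 2 ↥M := by
    rintro x ⟨y, hy, e⟩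
    rwa [← Subtype.ext (show (y : G) = (x : G) from e)]
  let ι : ↥(center ↥(Cfsg.pCore 2 ↥M)) →* G :=
    M.subtype.comp ((Cfsg.pCore 2 ↥M).subtype.comp (center ↥(Cfsg.pCore 2 ↥M)).subtype)
  haveI := hcyc M hM
  have hZc : IsCyclic ↥ι.range := isCyclic_of_surjective ι.rangeRestrict ι.rangeRestrict_surjective
  have hin : ∀ j ∈ Q, (∀ x ∈ Q, x * j = j * x) → j ∈ ι.range := by
    intro j hj hjc
    have hjM : j ∈ M := Cfsg.Lib.JComp.pCoreOf_le M hj
    refine ⟨⟨⟨⟨j, hjM⟩, hmem _ hj⟩, mem_center_iff.2 fun y => Subtype.ext (Subtype.ext ?_)⟩, rfl⟩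
    exact hjc _ ⟨(y : ↥M), y.2, rfl⟩
  have huniq : ∀ j ∈ Q, orderOf j = 2 → (∀ x ∈ Q, x * j = j * x) → j = v := fun j hj hj2 hjc =>
    eq_of_cyclic hZc (hin j hj hjc) (hin v hvQ hvc) hj2 hv
  have hMQ : M ≤ normalizer (Q : Set G) := le_normalizer.trans (Cfsg.Lib.JComp.normalizer_le_pCoreOf 2 M)
  have hMv : M ≤ centralizer ({v} : Set G) := by
    intro m hm
    have hn := hMQ hm
    have e : m * v * m⁻¹ = v := by
      refine huniq _ ((mem_normalizer_iff.1 hn v).1 hvQ) ?_ fun x hx => ?_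
      · rw [← MulAut.conj_apply, MulEquiv.orderOf_eq, hv]
      · have := hvc _ ((mem_normalizer_iff''.1 hn x).1 hx)
        calc x * (m * v * m⁻¹) = m * (m⁻¹ * x * m * v) * m⁻¹ := by group
          _ = m * (v * (m⁻¹ * x * m)) * m⁻¹ := by rw [this]
          _ = m * v * m⁻¹ * x := by group
    exact mem_cent.2 (mul_inv_eq_iff_eq_mul.1 e)
  have hMeq : M = centralizer ({v} : Set G) := by
    rw [cent_eq_normalizer hv]
    exact (hM.2 _ ⟨_, isPGroup_zpowers_inv hv, zpowers_ne_bot hv, rfl⟩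
      (cent_eq_normalizer hv ▸ hMv)).symm
  -- the centralizer of `Q` in `M`
  have h0 : Cfsg.pPrimeCore 2 ↥M = ⊥ := by
    have h := hcores v hv
    rw [Cfsg.centralizerPPrimeCore, map_eq_bot_iff_of_injective _ (subtype_injective _)] at h
    rwa [hMeq]
  have hc : Cfsg.IsPConstrained 2 ↥M := by
    rw [hMeq, cent_eq_normalizer hv]
    exact hcon _ (isPGroup_zpowers_inv hv) (zpowers_ne_bot hv)
  have hCQ := Cfsg.Lib.ZJ.charP_of_isPConstrained h0 hc
  refine ⟨v, hv, hMeq, fun P hQP i hi hiP hic => ?_⟩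
  have hiM : i ∈ M := hMeq ▸ mem_cent.2 (hic v (hQP hvQ)).symm
  have hiQ : (⟨i, hiM⟩ : ↥M) ∈ Cfsg.pCore 2 ↥M :=
    hCQ (mem_centralizer_iff.2 fun y hy => Subtype.ext (hic _ (hQP ⟨y, hy, rfl⟩)))
  exact huniq i ⟨_, hiQ, rfl⟩ hi fun x hx => hic x (hQP hx)

/-- Every `2`-local lies in a maximal one. -/
theorem exists_maximal {L : Subgroup G} (hL : Cfsg.IsTwoLocal L) :
    ∃ M : Subgroup G, Cfsg.IsMaximalTwoLocal M ∧ L ≤ M := by
  obtain ⟨M, ⟨hM1, hM2⟩, hmax⟩ := Set.Finite.exists_maximalFor (fun M : Subgroup G => M)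
    {M | Cfsg.IsTwoLocal M ∧ L ≤ M} (Set.toFinite _) ⟨L, hL, le_rfl⟩
  exact ⟨M, ⟨hM1, fun N hN hMN => le_antisymm (hmax ⟨hN, hM2.trans hMN⟩ hMN) hMN⟩, hM2⟩

include hcon hcores hcyc in
/-- With all centres cyclic, an involution central in a Sylow subgroup is isolated. -/
theorem isolated_of_cyclic (S : Sylow 2 G) {z : G} (hz : orderOf z = 2) (hzS : z ∈ (S : Subgroup G))
    (hzc : ∀ x ∈ (S : Subgroup G), x * z = z * x) (g : G) (hg : g * z * g⁻¹ ∈ (S : Subgroup G)) :
    g * z * g⁻¹ = z := by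
  haveI : Fact (Nat.Prime 2) := ⟨Nat.prime_two⟩
  -- involutions central in some Sylow subgroup are the conjugates of `z`
  have hcz : ∀ w : G, IsConj z w →
      ∃ P : Sylow 2 G, w ∈ (P : Subgroup G) ∧ ∀ x ∈ (P : Subgroup G), x * w = w * x := by
    intro w hw
    obtain ⟨a, rfl⟩ := isConj_iff.1 hw
    refine ⟨a • S, ?_, fun x hx => ?_⟩
    · rw [Sylow.coe_subgroup_smul]
      exact Subgroup.smul_mem_pointwise_smul z (MulAut.conj a) _ hzS
    · rw [Sylow.coe_subgroup_smul] at hx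
      obtain ⟨y, hy, rfl⟩ := hx
      show a * y * a⁻¹ * (a * z * a⁻¹) = a * z * a⁻¹ * (a * y * a⁻¹)
      calc a * y * a⁻¹ * (a * z * a⁻¹) = a * (y * z) * a⁻¹ := by group
        _ = a * (z * y) * a⁻¹ := by rw [hzc y hy]
        _ = _ := by group
  -- a Sylow subgroup has only one central involution
  have hone : ∀ (P : Sylow 2 G) (i j : G), orderOf i = 2 → i ∈ (P : Subgroup G) →
      (∀ x ∈ (P : Subgroup G), x * i = i * x) → orderOf j = 2 → j ∈ (P : Subgroup G) →
      (∀ x ∈ (P : Subgroup G), x * j = j * x) → i = j := by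
    intro P i j hi hiP hic hj hjP hjc
    obtain ⟨M, hM, hPM⟩ := exists_maximal (G := G)
      ⟨(P : Subgroup G), P.2, fun e => by rw [e, mem_bot] at hiP; rw [hiP, orderOf_one] at hi; omega, rfl⟩
    obtain ⟨v, -, -, hu⟩ := maximal_structure hcon hcores hcyc hM
    have hQP : Cfsg.pCoreOf 2 M ≤ (P : Subgroup G) := by
      have hle : (P : Subgroup G) ≤ normalizer (Cfsg.pCoreOf 2 M : Set G) :=
        le_normalizer.trans (hPM.trans (le_normalizer.trans (Cfsg.Lib.JComp.normalizer_le_pCoreOf 2 M)))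
      exact le_sup_right.trans (P.3 ((P.2).to_sup_of_normal_right' (Cfsg.Lib.JComp.isPGroup_pCoreOf M) hle)
        le_sup_left).le
    rw [hu P hQP i hi hiP hic, hu P hQP j hj hjP hjc]
  have hord : ∀ w : G, IsConj z w → orderOf w = 2 := fun w hw => by
    obtain ⟨a, rfl⟩ := isConj_iff.1 hw
    rw [← MulAut.conj_apply, MulEquiv.orderOf_eq, hz]
  -- every `2`-local fixes a conjugate of `z`
  have hloc : ∀ L : Subgroup G, Cfsg.IsTwoLocal L →
      ∃ v : G, IsConj z v ∧ L ≤ centralizer ({v} : Set G) := by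
    intro L hL
    obtain ⟨M, hM, hLM⟩ := exists_maximal hL
    obtain ⟨v, -, hMeq, hu⟩ := maximal_structure hcon hcores hcyc hM
    obtain ⟨P, hP⟩ := (Cfsg.Lib.JComp.isPGroup_pCoreOf (p := 2) M).exists_le_sylow
    obtain ⟨a, ha⟩ := MulAction.exists_smul_eq G S P
    have hb : a * z * a⁻¹ ∈ (P : Subgroup G) := by
      rw [← ha, Sylow.coe_subgroup_smul]
      exact Subgroup.smul_mem_pointwise_smul z (MulAut.conj a) _ hzS
    refine ⟨v, ?_, hMeq ▸ hLM⟩
    rw [← hu P hP (a * z * a⁻¹) (hord _ (isConj_iff.2 ⟨a, rfl⟩)) hb fun x hx => ?_]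
    · exact isConj_iff.2 ⟨a, rfl⟩
    · rw [← ha, Sylow.coe_subgroup_smul] at hx
      obtain ⟨y, hy, rfl⟩ := hx
      show a * y * a⁻¹ * (a * z * a⁻¹) = a * z * a⁻¹ * (a * y * a⁻¹)
      calc a * y * a⁻¹ * (a * z * a⁻¹) = a * (y * z) * a⁻¹ := by group
        _ = a * (z * y) * a⁻¹ := by rw [hzc y hy]
        _ = _ := by group
  by_contra hne
  -- a pair with the largest common `2`-subgroup
  let Pairs : Set ((G × G) × Subgroup G) := {c | IsConj z c.1.1 ∧ IsConj z c.1.2 ∧ c.1.1 ≠ c.1.2 ∧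
    c.1.1 ∈ c.2 ∧ c.1.2 ∈ c.2 ∧ IsPGroup 2 ↥c.2 ∧
    c.2 ≤ centralizer ({c.1.1} : Set G) ∧ c.2 ≤ centralizer ({c.1.2} : Set G)}
  have hPairs : Pairs.Nonempty := by
    set w := g * z * g⁻¹
    have hwz : w * z = z * w := hzc w hg
    refine ⟨((z, w), closure {z, w}), .refl z, isConj_iff.2 ⟨g, rfl⟩, fun e => hne e.symm,
      subset_closure (Set.mem_insert _ _), subset_closure (Set.mem_insert_of_mem _ rfl),
      S.2.to_le ((closure_le _).2 (by rintro x (rfl | rfl) <;> assumption)), ?_, ?_⟩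
    · exact (closure_le _).2 (by
        rintro x (rfl | rfl)
        exacts [mem_cent.2 rfl, mem_cent.2 hwz])
    · exact (closure_le _).2 (by
        rintro x (rfl | rfl)
        exacts [mem_cent.2 hwz.symm, mem_cent.2 rfl])
  obtain ⟨⟨⟨a, b⟩, R⟩, hR, hmax⟩ :=
    Set.Finite.exists_maximalFor (fun c : (G × G) × Subgroup G => Nat.card ↥c.2) Pairs (Set.toFinite _) hPairs
  obtain ⟨ha, hb, hab, haR, hbR, hRp, hRa, hRb⟩ := hR
  dsimp only at ha hb hab haR hbR hRp hRa hRb hmax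
  -- enlarging `R` inside each centralizer
  have key : ∀ i j : G, IsConj z i → IsConj z j → i ≠ j → i ∈ R → j ∈ R →
      R ≤ centralizer ({i} : Set G) → R ≤ centralizer ({j} : Set G) →
      ∃ R' : Subgroup G, IsPGroup 2 ↥R' ∧ Nat.card ↥R < Nat.card ↥R' ∧
        R' ≤ centralizer ({i} : Set G) ∧ R' ≤ normalizer (R : Set G) ∧ R ≤ R' := by
    intro i j hi hj hij hiR hjR hRi hRj
    obtain ⟨P, hiP, hicP⟩ := hcz i hi
    have hPi : (P : Subgroup G) ≤ centralizer ({i} : Set G) := fun x hx => mem_cent.2 (hicP x hx)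
    obtain ⟨P₁, hP₁⟩ := (hRp.comap_subtype (K := centralizer ({i} : Set G))).exists_le_sylow
    set T := (P₁ : Subgroup ↥(centralizer ({i} : Set G))).map (centralizer ({i} : Set G)).subtype with hTdef
    have hTp : IsPGroup 2 T := P₁.2.map _
    have hTle : T ≤ centralizer ({i} : Set G) := map_subtype_le _
    have hRT : R ≤ T := fun x hx => ⟨⟨x, hRi hx⟩, hP₁ (mem_subgroupOf.2 hx), rfl⟩
    have hne : R ≠ T := by
      intro e
      -- then `R` would be a Sylow subgroup of `G` with two central conjugates of `z`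
      obtain ⟨P₂, hP₂⟩ := hRp.exists_le_sylow
      obtain ⟨P₃, hP₃⟩ := (P.2.comap_subtype (K := centralizer ({i} : Set G))).exists_le_sylow
      have hcard : Nat.card ↥(P₂ : Subgroup G) ≤ Nat.card ↥R := by
        rw [e, hTdef, card_map_of_injective (subtype_injective _), P₂.card_eq_multiplicity,
          ← P.card_eq_multiplicity, P₁.card_eq_multiplicity, ← P₃.card_eq_multiplicity,
          ← Nat.card_congr (subgroupOfEquivOfLe hPi).toEquiv]
        exact card_le_of_le hP₃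
      have heq := eq_of_le_of_card_ge hP₂ hcard
      exact hij (hone P₂ i j (hord _ hi) (hP₂ hiR) (fun x hx => mem_cent.1 (hRi (heq ▸ hx)))
        (hord _ hj) (hP₂ hjR) (fun x hx => mem_cent.1 (hRj (heq ▸ hx))))
    refine ⟨T ⊓ normalizer (R : Set G), hTp.to_le inf_le_left,
      Cfsg.Lib.Control.card_lt_normalizer hTp (lt_of_le_of_ne hRT hne), inf_le_left.trans hTle,
      inf_le_right, le_inf hRT le_normalizer⟩
  obtain ⟨Ra, hRap, hRac, hRaa, hRan, hRRa⟩ := key a b ha hb hab haR hbR hRa hRb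
  obtain ⟨Rb, hRbp, hRbc, hRbb, hRbn, hRRb⟩ := key b a hb ha (Ne.symm hab) hbR haR hRb hRa
  obtain ⟨v, hv, hLv⟩ := hloc (normalizer (R : Set G))
    ⟨R, hRp, fun e => by
      rw [e, mem_bot] at haR
      have := hord a ha
      rw [haR, orderOf_one] at this; omega, rfl⟩
  by_cases hva : v = a
  · have := hmax (j := ((a, b), Rb)) ⟨ha, hb, hab, hRRb haR, hRRb hbR, hRbp,
      hva ▸ hRbn.trans hLv, hRbb⟩ hRbc.le
    exact absurd this (not_le.2 hRbc)
  · have hav : a * v = v * a := mem_cent.1 (hLv (le_normalizer haR))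
    set R' := Ra ⊔ zpowers v
    have hvc : ∀ x ∈ Ra, x * v = v * x := fun x hx => mem_cent.1 (hLv (hRan hx))
    have hR'p : IsPGroup 2 ↥R' := by
      refine hRap.to_sup_of_normal_left' (isPGroup_zpowers_inv (hord v hv)) ?_
      rw [zpowers_le]
      exact centralizer_le_normalizer _ (mem_centralizer_iff.2 hvc)
    have hR'a : R' ≤ centralizer ({a} : Set G) := sup_le hRaa ((zpowers_le).2 (mem_cent.2 hav.symm))
    have hR'v : R' ≤ centralizer ({v} : Set G) :=
      sup_le (hRan.trans hLv) ((zpowers_le).2 (mem_cent.2 rfl))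
    have hlt : Nat.card ↥R < Nat.card ↥R' := hRac.trans_le (card_le_of_le le_sup_left)
    have := hmax (j := ((a, v), R')) ⟨ha, hv, Ne.symm hva, le_sup_left (b := zpowers v) (hRRa haR),
      le_sup_right (a := Ra) (mem_zpowers v), hR'p, hR'a, hR'v⟩ hlt.le
    exact absurd this (not_le.2 hlt)

end Cfsg.Lib.EarlyCharTwo
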